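import Mathlib
import Cfsg.Agent.H105.Og.SlE

/-!
# Matrices over `ZMod 2` acting on the six-dimensional hyperbolic part (helper124, S2454)

Two explicit elements of order five of `Ω₆⁺(2)` whose product is an element of order seven of `SL₃(2)`.
-/

set_option autoImplicit false
set_option linter.unusedSectionVars false
set_option linter.unusedSimpArgs false

namespace Cfsg.Agent.H124.Og

open QuadraticMap Matrix Module Subgroup Cfsg.Agent.LieClassical.OrthCore Cfsg.Agent.H105.Og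

variable {F : Type} [Field F] {U : Type} [AddCommGroup U] [Module F U]

abbrev Sp (F U : Type) : Type := ((Fin 3 → F) × (Fin 3 → F)) × U

/-- the six coordinates -/
def cc (v : Sp F U) : Fin 6 → F := ![v.1.1 0, v.1.1 1, v.1.1 2, v.1.2 0, v.1.2 1, v.1.2 2]

/-- the action of a `6 × 6` matrix -/
def psi (N : Matrix (Fin 6) (Fin 6) F) (v : Sp F U) : Sp F U :=
  ((![(N *ᵥ cc v) 0, (N *ᵥ cc v) 1, (N *ᵥ cc v) 2], ![(N *ᵥ cc v) 3, (N *ᵥ cc v) 4, (N *ᵥ cc v) 5]), v.2)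

theorem cc_psi (N : Matrix (Fin 6) (Fin 6) F) (v : Sp F U) : cc (psi N v) = N *ᵥ cc v := by
  funext i
  fin_cases i <;> rfl

theorem psi_psi (N N' : Matrix (Fin 6) (Fin 6) F) (v : Sp F U) : psi N (psi N' v) = psi (N * N') v := by
  have h : N *ᵥ cc (psi N' v) = (N * N') *ᵥ cc v := by
    rw [cc_psi, Matrix.mulVec_mulVec]
  show ((_, _), _) = ((_, _), _)
  rw [h]
  rfl

theorem psi_one (v : Sp F U) : psi (1 : Matrix (Fin 6) (Fin 6) F) v = v := by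
  have h : (1 : Matrix (Fin 6) (Fin 6) F) *ᵥ cc v = cc v := Matrix.one_mulVec _
  obtain ⟨⟨a, b⟩, u⟩ := v
  show ((_, _), _) = _
  rw [h]
  refine Prod.ext (Prod.ext ?_ ?_) rfl
  · funext i
    fin_cases i <;> rfl
  · funext i
    fin_cases i <;> rfl

/-- `g` acts as the matrix `N` (entries in `ZMod 2`) on the hyperbolic part and trivially on `U` -/
def Rep (φ : ZMod 2 →+* F) (g : Sp F U ≃ₗ[F] Sp F U) (N : Matrix (Fin 6) (Fin 6) (ZMod 2)) : Prop :=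
  ∀ v, g v = psi (N.map φ) v

variable {φ : ZMod 2 →+* F}

theorem Rep.mul {g h : Sp F U ≃ₗ[F] Sp F U} {N N' : Matrix (Fin 6) (Fin 6) (ZMod 2)} (hg : Rep φ g N)
    (hh : Rep φ h N') : Rep φ (g * h) (N * N') := by
  intro v
  rw [Matrix.map_mul, ← psi_psi, ← hh v, ← hg (h v)]
  rfl

theorem Rep.one : Rep φ (1 : Sp F U ≃ₗ[F] Sp F U) 1 := by
  intro v
  rw [Matrix.map_one _ (map_zero _) (map_one _), psi_one]
  rfl

theorem Rep.eq {g h : Sp F U ≃ₗ[F] Sp F U} {N : Matrix (Fin 6) (Fin 6) (ZMod 2)} (hg : Rep φ g N)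
    (hh : Rep φ h N) : g = h := LinearEquiv.ext fun v => (hg v).trans (hh v).symm

theorem two_eq_zero (φ : ZMod 2 →+* F) : (2 : F) = 0 := by
  have h : (2 : ZMod 2) = 0 := by decide
  calc (2 : F) = φ 2 := (map_ofNat φ 2).symm
    _ = 0 := by rw [h, map_zero]

/-- the basis vectors -/
def ve (i : Fin 3) : Sp F U := ((Pi.single i 1, 0), 0)

def vf (i : Fin 3) : Sp F U := ((0, Pi.single i 1), 0)

variable {R : QuadraticForm F U}

def B1 : Matrix (Fin 6) (Fin 6) (ZMod 2) :=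
  !![1, 0, 0, 0, 1, 0; 0, 1, 0, 1, 0, 0; 0, 0, 1, 0, 0, 0; 0, 0, 0, 1, 0, 0; 0, 0, 0, 0, 1, 0; 0, 0, 0, 0, 0, 1]

def B2 : Matrix (Fin 6) (Fin 6) (ZMod 2) :=
  !![1, 0, 0, 0, 0, 1; 0, 1, 0, 0, 0, 0; 0, 0, 1, 1, 0, 0; 0, 0, 0, 1, 0, 0; 0, 0, 0, 0, 1, 0; 0, 0, 0, 0, 0, 1]

def B3 : Matrix (Fin 6) (Fin 6) (ZMod 2) :=
  !![1, 0, 0, 0, 0, 0; 1, 1, 0, 0, 0, 0; 0, 0, 1, 0, 0, 0; 0, 0, 0, 1, 1, 0; 0, 0, 0, 0, 1, 0; 0, 0, 0, 0, 0, 1]

def B4 : Matrix (Fin 6) (Fin 6) (ZMod 2) :=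
  !![1, 0, 0, 0, 0, 0; 0, 1, 0, 0, 0, 0; 0, 0, 1, 0, 0, 0; 0, 1, 0, 1, 0, 0; 1, 0, 0, 0, 1, 0; 0, 0, 0, 0, 0, 1]

def B5 : Matrix (Fin 6) (Fin 6) (ZMod 2) :=
  !![1, 0, 1, 0, 0, 0; 0, 1, 0, 0, 0, 0; 0, 0, 1, 0, 0, 0; 0, 0, 0, 1, 0, 0; 0, 0, 0, 0, 1, 0; 0, 0, 0, 1, 0, 1]

theorem eq_neg_of_two (h2 : (2 : F) = 0) (a : F) : -a = a := by
  linear_combination (-a) * h2

theorem rep1 (φ : ZMod 2 →+* F) (R : QuadraticForm F U) : ∃ g ∈ E (HU (Fin 3) R), Rep φ g B1 := by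
  have h2 := two_eq_zero φ
  have hu : HU (Fin 3) R (ve 0) = 0 := by simp [HU_apply, ve, vf]
  have hw : polar (HU (Fin 3) R) (ve 0) (ve 1) = 0 := by simp [polar_HU, ve, vf]
  refine ⟨siegel _ (ve 0) (ve 1) hu hw, siegel_mem_E hu hw, ?_⟩
  intro v
  obtain ⟨⟨a, b⟩, u⟩ := v
  have h0 : HU (Fin 3) R (ve 1) = 0 := by simp [HU_apply, ve, vf]
  rw [siegel_apply, h0]
  refine Prod.ext (Prod.ext ?_ ?_) ?_
  · funext i
    fin_cases i <;>
      simp [polar_HU, ve, vf, psi, cc, B1, Matrix.mulVec, dotProduct, Fin.sum_univ_succ, eq_neg_of_two h2,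
        sub_eq_add_neg] <;> ring
  · funext i
    fin_cases i <;>
      simp [polar_HU, ve, vf, psi, cc, B1, Matrix.mulVec, dotProduct, Fin.sum_univ_succ, eq_neg_of_two h2,
        sub_eq_add_neg] <;> ring
  · simp [ve, vf, psi]

theorem rep2 (φ : ZMod 2 →+* F) (R : QuadraticForm F U) : ∃ g ∈ E (HU (Fin 3) R), Rep φ g B2 := by
  have h2 := two_eq_zero φ
  have hu : HU (Fin 3) R (ve 0) = 0 := by simp [HU_apply, ve, vf]
  have hw : polar (HU (Fin 3) R) (ve 0) (ve 2) = 0 := by simp [polar_HU, ve, vf]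
  refine ⟨siegel _ (ve 0) (ve 2) hu hw, siegel_mem_E hu hw, ?_⟩
  intro v
  obtain ⟨⟨a, b⟩, u⟩ := v
  have h0 : HU (Fin 3) R (ve 2) = 0 := by simp [HU_apply, ve, vf]
  rw [siegel_apply, h0]
  refine Prod.ext (Prod.ext ?_ ?_) ?_
  · funext i
    fin_cases i <;>
      simp [polar_HU, ve, vf, psi, cc, B2, Matrix.mulVec, dotProduct, Fin.sum_univ_succ, eq_neg_of_two h2,
        sub_eq_add_neg] <;> ring
  · funext i
    fin_cases i <;>
      simp [polar_HU, ve, vf, psi, cc, B2, Matrix.mulVec, dotProduct, Fin.sum_univ_succ, eq_neg_of_two h2,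
        sub_eq_add_neg] <;> ring
  · simp [ve, vf, psi]

theorem rep3 (φ : ZMod 2 →+* F) (R : QuadraticForm F U) : ∃ g ∈ E (HU (Fin 3) R), Rep φ g B3 := by
  have h2 := two_eq_zero φ
  have hu : HU (Fin 3) R (ve 1) = 0 := by simp [HU_apply, ve, vf]
  have hw : polar (HU (Fin 3) R) (ve 1) (vf 0) = 0 := by simp [polar_HU, ve, vf]
  refine ⟨siegel _ (ve 1) (vf 0) hu hw, siegel_mem_E hu hw, ?_⟩
  intro v
  obtain ⟨⟨a, b⟩, u⟩ := v
  have h0 : HU (Fin 3) R (vf 0) = 0 := by simp [HU_apply, ve, vf]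
  rw [siegel_apply, h0]
  refine Prod.ext (Prod.ext ?_ ?_) ?_
  · funext i
    fin_cases i <;>
      simp [polar_HU, ve, vf, psi, cc, B3, Matrix.mulVec, dotProduct, Fin.sum_univ_succ, eq_neg_of_two h2,
        sub_eq_add_neg] <;> ring
  · funext i
    fin_cases i <;>
      simp [polar_HU, ve, vf, psi, cc, B3, Matrix.mulVec, dotProduct, Fin.sum_univ_succ, eq_neg_of_two h2,
        sub_eq_add_neg] <;> ring
  · simp [ve, vf, psi]

theorem rep4 (φ : ZMod 2 →+* F) (R : QuadraticForm F U) : ∃ g ∈ E (HU (Fin 3) R), Rep φ g B4 := by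
  have h2 := two_eq_zero φ
  have hu : HU (Fin 3) R (vf 0) = 0 := by simp [HU_apply, ve, vf]
  have hw : polar (HU (Fin 3) R) (vf 0) (vf 1) = 0 := by simp [polar_HU, ve, vf]
  refine ⟨siegel _ (vf 0) (vf 1) hu hw, siegel_mem_E hu hw, ?_⟩
  intro v
  obtain ⟨⟨a, b⟩, u⟩ := v
  have h0 : HU (Fin 3) R (vf 1) = 0 := by simp [HU_apply, ve, vf]
  rw [siegel_apply, h0]
  refine Prod.ext (Prod.ext ?_ ?_) ?_
  · funext i
    fin_cases i <;>
      simp [polar_HU, ve, vf, psi, cc, B4, Matrix.mulVec, dotProduct, Fin.sum_univ_succ, eq_neg_of_two h2,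
        sub_eq_add_neg] <;> ring
  · funext i
    fin_cases i <;>
      simp [polar_HU, ve, vf, psi, cc, B4, Matrix.mulVec, dotProduct, Fin.sum_univ_succ, eq_neg_of_two h2,
        sub_eq_add_neg] <;> ring
  · simp [ve, vf, psi]

theorem rep5 (φ : ZMod 2 →+* F) (R : QuadraticForm F U) : ∃ g ∈ E (HU (Fin 3) R), Rep φ g B5 := by
  have h2 := two_eq_zero φ
  have hu : HU (Fin 3) R (ve 0) = 0 := by simp [HU_apply, ve, vf]
  have hw : polar (HU (Fin 3) R) (ve 0) (vf 2) = 0 := by simp [polar_HU, ve, vf]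
  refine ⟨siegel _ (ve 0) (vf 2) hu hw, siegel_mem_E hu hw, ?_⟩
  intro v
  obtain ⟨⟨a, b⟩, u⟩ := v
  have h0 : HU (Fin 3) R (vf 2) = 0 := by simp [HU_apply, ve, vf]
  rw [siegel_apply, h0]
  refine Prod.ext (Prod.ext ?_ ?_) ?_
  · funext i
    fin_cases i <;>
      simp [polar_HU, ve, vf, psi, cc, B5, Matrix.mulVec, dotProduct, Fin.sum_univ_succ, eq_neg_of_two h2,
        sub_eq_add_neg] <;> ring
  · funext i
    fin_cases i <;>
      simp [polar_HU, ve, vf, psi, cc, B5, Matrix.mulVec, dotProduct, Fin.sum_univ_succ, eq_neg_of_two h2,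
        sub_eq_add_neg] <;> ring
  · simp [ve, vf, psi]

end Cfsg.Agent.H124.Og
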