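import Mathlib
import Cfsg.Agent.H124.Og.Rep
import Cfsg.Agent.H105.Og.Engine
import Cfsg.Agent.H926.OgCent
import Cfsg.Agent.H990.TC.Cent

/-!
# `Ω₈⁻(2)`, `p = 5` (helper124, S2454, lemma X5 for `q = 2`)
-/

set_option autoImplicit false
set_option linter.unusedSectionVars false

namespace Cfsg.Agent.H124.Og

open QuadraticMap Matrix Module Subgroup Polynomial Cfsg.Agent.LieClassical.OrthCore Cfsg.Agent.H105.Og
  Cfsg.Agent.H514.DP

/-! ### matrices -/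

def P2 : Matrix (Fin 6) (Fin 6) (ZMod 2) :=
  !![1, 0, 0, 0, 1, 1; 0, 1, 0, 1, 0, 0; 0, 0, 1, 1, 0, 0; 0, 0, 0, 1, 0, 0; 0, 0, 0, 0, 1, 0; 0, 0, 0, 0, 0, 1]

def P3 : Matrix (Fin 6) (Fin 6) (ZMod 2) :=
  !![1, 0, 0, 0, 1, 1; 1, 1, 0, 1, 1, 0; 0, 0, 1, 1, 1, 0; 0, 0, 0, 1, 1, 0; 0, 0, 0, 0, 1, 0; 0, 0, 0, 0, 0, 1]

def P4 : Matrix (Fin 6) (Fin 6) (ZMod 2) :=
  !![0, 0, 0, 0, 1, 1; 0, 0, 0, 1, 1, 0; 1, 1, 1, 1, 1, 0; 1, 1, 0, 1, 1, 0; 1, 0, 0, 0, 1, 0; 0, 0, 0, 0, 0, 1]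

/-- of order five -/
def X1 : Matrix (Fin 6) (Fin 6) (ZMod 2) :=
  !![0, 0, 0, 1, 1, 1; 0, 0, 0, 1, 1, 0; 1, 1, 0, 1, 1, 0; 1, 1, 1, 1, 1, 0; 1, 0, 1, 0, 1, 0; 0, 0, 0, 1, 0, 1]

def X2 : Matrix (Fin 6) (Fin 6) (ZMod 2) :=
  !![0, 1, 0, 0, 0, 1; 0, 1, 0, 1, 0, 0; 0, 1, 0, 1, 0, 1; 1, 0, 0, 0, 1, 1; 0, 1, 1, 0, 1, 1; 1, 1, 1, 0, 1, 1]

def X4 : Matrix (Fin 6) (Fin 6) (ZMod 2) :=
  !![1, 0, 1, 1, 1, 1; 1, 1, 0, 1, 1, 1; 0, 0, 1, 1, 0, 0; 1, 1, 0, 0, 0, 1; 1, 0, 0, 0, 0, 1; 1, 1, 0, 0, 0, 0]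

/-- of order seven -/
def Y1 : Matrix (Fin 6) (Fin 6) (ZMod 2) :=
  !![0, 0, 1, 0, 0, 0; 1, 0, 1, 0, 0, 0; 0, 1, 0, 0, 0, 0; 0, 0, 0, 1, 0, 1; 0, 0, 0, 1, 0, 0; 0, 0, 0, 0, 1, 0]

/-- `X⁻¹ Y`, of order five -/
def Z1 : Matrix (Fin 6) (Fin 6) (ZMod 2) :=
  !![0, 1, 1, 0, 1, 1; 1, 0, 0, 0, 1, 1; 0, 1, 0, 1, 0, 1; 1, 0, 0, 0, 1, 0; 0, 0, 1, 0, 1, 0; 1, 0, 0, 0, 0, 0]

def Z2 : Matrix (Fin 6) (Fin 6) (ZMod 2) :=
  !![0, 1, 1, 1, 0, 0; 1, 1, 0, 0, 0, 1; 1, 0, 0, 0, 0, 1; 0, 1, 0, 0, 0, 1; 0, 1, 1, 1, 1, 1; 0, 1, 1, 0, 1, 1]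

def Z4 : Matrix (Fin 6) (Fin 6) (ZMod 2) :=
  !![0, 0, 0, 0, 0, 1; 1, 1, 0, 1, 1, 0; 0, 0, 0, 1, 1, 1; 1, 0, 1, 0, 1, 0; 0, 0, 0, 1, 0, 1; 0, 1, 0, 1, 0, 0]

theorem m2 : B1 * B2 = P2 := by decide +kernel
theorem m3 : P2 * B3 = P3 := by decide +kernel
theorem m4 : P3 * B4 = P4 := by decide +kernel
theorem m5 : P4 * B5 = X1 := by decide +kernel
theorem x2 : X1 * X1 = X2 := by decide +kernel
theorem x4 : X2 * X2 = X4 := by decide +kernel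
theorem x5 : X4 * X1 = 1 := by decide +kernel
theorem z1 : X4 * Y1 = Z1 := by decide +kernel
theorem z2 : Z1 * Z1 = Z2 := by decide +kernel
theorem z4 : Z2 * Z2 = Z4 := by decide +kernel
theorem z5 : Z4 * Z1 = 1 := by decide +kernel

def A0 : SpecialLinearGroup (Fin 3) (ZMod 2) := ⟨!![0, 0, 1; 1, 0, 1; 0, 1, 0], by decide +kernel⟩

def A0i : SpecialLinearGroup (Fin 3) (ZMod 2) := ⟨!![1, 1, 0; 0, 0, 1; 1, 0, 0], by decide +kernel⟩

theorem A0_inv : A0⁻¹ = A0i := by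
  rw [inv_eq_iff_mul_eq_one]
  apply Subtype.ext
  show A0.1 * A0i.1 = 1
  decide +kernel

variable {F : Type} [Field F] {U : Type} [AddCommGroup U] [Module F U]

/-- the element of order seven -/
def AA (φ : ZMod 2 →+* F) : SpecialLinearGroup (Fin 3) F := SpecialLinearGroup.map φ A0

theorem AA_val (φ : ZMod 2 →+* F) : (AA φ).1 = (A0.1).map φ := rfl

theorem AA_inv (φ : ZMod 2 →+* F) : ((AA φ)⁻¹).1 = (A0i.1).map φ := by
  rw [AA, ← map_inv, A0_inv]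
  rfl

theorem rep_y (φ : ZMod 2 →+* F) : Rep (U := U) φ (slL (Fin 3) F U (AA φ)) Y1 := by
  intro v
  obtain ⟨⟨a, b⟩, u⟩ := v
  rw [slL_apply, AA_inv, AA_val]
  refine Prod.ext (Prod.ext ?_ ?_) rfl
  · funext i
    fin_cases i <;>
      simp [psi, cc, Y1, A0, Matrix.mulVec, dotProduct, Fin.sum_univ_succ]
  · funext i
    fin_cases i <;>
      simp [psi, cc, Y1, A0i, Matrix.mulVec, dotProduct, Fin.sum_univ_succ]

theorem exists_x (φ : ZMod 2 →+* F) (R : QuadraticForm F U) : ∃ x ∈ E (HU (Fin 3) R), Rep φ x X1 := by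
  obtain ⟨g1, h1, r1⟩ := rep1 φ R
  obtain ⟨g2, h2, r2⟩ := rep2 φ R
  obtain ⟨g3, h3, r3⟩ := rep3 φ R
  obtain ⟨g4, h4, r4⟩ := rep4 φ R
  obtain ⟨g5, h5, r5⟩ := rep5 φ R
  refine ⟨g1 * g2 * g3 * g4 * g5, mul_mem (mul_mem (mul_mem (mul_mem h1 h2) h3) h4) h5, ?_⟩
  have := (((r1.mul r2).mul r3).mul r4).mul r5
  rwa [m2, m3, m4, m5] at this

/-- the element of order seven is a product of two elements of order five -/
theorem pe_y (φ : ZMod 2 →+* F) (R : QuadraticForm F U) : PE 5 2 (slE R (Fin 3) (AA φ)) := by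
  obtain ⟨x, hx, rx⟩ := exists_x φ R
  have ry : Rep (U := U) φ (slL (Fin 3) F U (AA φ)) Y1 := rep_y φ
  have rx2 : Rep φ (x * x) X2 := x2 ▸ rx.mul rx
  have rx4 : Rep φ (x * x * (x * x)) X4 := x4 ▸ rx2.mul rx2
  have rx5 : Rep φ (x * x * (x * x) * x) 1 := x5 ▸ rx4.mul rx
  have hx5 : x * x * (x * x) * x = 1 := rx5.eq Rep.one
  set z := x * x * (x * x) * slL (Fin 3) F U (AA φ) with hz
  have rz : Rep φ z Z1 := z1 ▸ rx4.mul ry
  have rz2 : Rep φ (z * z) Z2 := z2 ▸ rz.mul rz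
  have rz4 : Rep φ (z * z * (z * z)) Z4 := z4 ▸ rz2.mul rz2
  have rz5 : Rep φ (z * z * (z * z) * z) 1 := z5 ▸ rz4.mul rz
  have hz5 : z * z * (z * z) * z = 1 := rz5.eq Rep.one
  have hyE := slL_mem_E R (AA φ)
  have hzE : z ∈ E (HU (Fin 3) R) := mul_mem (mul_mem (mul_mem hx hx) (mul_mem hx hx)) hyE
  have e5 : ∀ g : Sp F U ≃ₗ[F] Sp F U, g ^ 5 ^ 1 = g * g * (g * g) * g := by
    intro g
    rw [pow_one]
    show g ^ (4 + 1) = _
    rw [pow_succ, show g ^ 4 = g ^ 2 * g ^ 2 from (pow_add g 2 2), pow_two]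
  refine ⟨⟨x, hx⟩, ⟨z, hzE⟩, ⟨1, ?_⟩, ?_, ?_⟩
  · apply Subtype.ext
    show x ^ 5 ^ 1 = 1
    rw [e5, hx5]
  · refine IsPE.pe ⟨1, ?_⟩
    apply Subtype.ext
    show z ^ 5 ^ 1 = 1
    rw [e5, hz5]
  · apply Subtype.ext
    show x * z = slL (Fin 3) F U (AA φ)
    rw [hz, ← mul_assoc]
    have : x * (x * x * (x * x)) = x * x * (x * x) * x := by group
    rw [this, hx5, one_mul]

theorem exists_phi [Finite F] (h : Nat.card F = 2) : Nonempty (ZMod 2 →+* F) := by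
  have := Fintype.ofFinite F
  have h' : Fintype.card F = 2 := by rw [← Nat.card_eq_fintype_card]; exact h
  exact ⟨(ZMod.ringEquivOfPrime F Nat.prime_two h').toRingHom⟩

/-- the polynomial `X³ + X + 1` -/
theorem aeval_A [Finite F] (φ : ZMod 2 →+* F) : aeval (AA φ).1 (X ^ 3 + X + 1 : F[X]) = 0 := by
  have h : A0.1 ^ 3 + A0.1 + 1 = 0 := by decide +kernel
  have h' := congrArg (φ.mapMatrix) h
  rw [map_add, map_add, map_pow, map_one, map_zero] at h'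
  rw [map_add, map_add, map_pow, map_one, aeval_X]
  exact h'

theorem aeval_Ai [Finite F] (φ : ZMod 2 →+* F) : aeval ((AA φ)⁻¹).1 (X ^ 3 + X + 1 : F[X]) = (AA φ).1 := by
  have h : A0i.1 ^ 3 + A0i.1 + 1 = A0.1 := by decide +kernel
  have h' := congrArg (φ.mapMatrix) h
  rw [map_add, map_add, map_pow, map_one] at h'
  rw [map_add, map_add, map_pow, map_one, aeval_X, AA_inv]
  exact h'

theorem cyclic_A (φ : ZMod 2 →+* F) :
    Submodule.span F (Set.range fun i : ℕ => ((AA φ).1 ^ i) *ᵥ (Pi.single 0 1 : Fin 3 → F)) = ⊤ := by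
  rw [eq_top_iff]
  intro v _
  have e1 : (Pi.single 1 1 : Fin 3 → F) = ((AA φ).1 ^ 1) *ᵥ (Pi.single 0 1 : Fin 3 → F) := by
    rw [pow_one, AA_val]
    funext i
    fin_cases i <;> simp [A0]
  have e2 : (Pi.single 2 1 : Fin 3 → F) = ((AA φ).1 ^ 2) *ᵥ (Pi.single 0 1 : Fin 3 → F) := by
    have h : A0.1 ^ 2 = !![0, 1, 0; 0, 1, 1; 1, 0, 1] := by decide +kernel
    have h' := congrArg (φ.mapMatrix) h
    rw [map_pow] at h'
    have h'' : (AA φ).1 ^ 2 = (!![0, 1, 0; 0, 1, 1; 1, 0, 1] : Matrix (Fin 3) (Fin 3) (ZMod 2)).map φ := h'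
    rw [h'']
    funext i
    fin_cases i <;> simp
  have hv : v = v 0 • (Pi.single 0 1 : Fin 3 → F) + v 1 • Pi.single 1 1 + v 2 • Pi.single 2 1 := by
    funext i
    fin_cases i <;> simp
  rw [hv]
  refine add_mem (add_mem (Submodule.smul_mem _ _ ?_) (Submodule.smul_mem _ _ ?_)) (Submodule.smul_mem _ _ ?_)
  · exact Submodule.subset_span ⟨0, by
      show ((AA φ).1 ^ 0) *ᵥ (Pi.single 0 1 : Fin 3 → F) = _
      rw [pow_zero, Matrix.one_mulVec]⟩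
  · rw [e1]; exact Submodule.subset_span ⟨1, rfl⟩
  · rw [e2]; exact Submodule.subset_span ⟨2, rfl⟩

theorem lemmaX_eight_two [Finite F] [FiniteDimensional F U] (hF : Nat.card F = 2) {p : ℕ} (hp : p.Prime)
    (ho : orderOf ((Nat.card F : ℕ) : ZMod p) = 4) {R : QuadraticForm F U} (hR : Nondeg R)
    (hU : finrank F U = 2) (hA : MinDeg (E (HU (Fin 3) R)) 23) : PW p 70 (E (HU (Fin 3) R)) := by
  obtain ⟨φ⟩ := exists_phi hF
  have hfin : Finite (E (HU (Fin 3) R)) := finite_E _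
  -- `p = 5`
  have hp5 : p = 5 := by
    rw [hF] at ho
    have h1 : ((2 : ℕ) : ZMod p) ^ 4 = 1 := by rw [← ho]; exact pow_orderOf_eq_one _
    have h2 : ((15 : ℕ) : ZMod p) = 0 := by
      have : ((15 : ℕ) : ZMod p) = ((2 : ℕ) : ZMod p) ^ 4 - 1 := by push_cast; ring
      rw [this, h1, sub_self]
    have h3 : p ∣ 15 := (ZMod.natCast_eq_zero_iff _ _).1 h2
    have h4 : p ∣ 3 * 5 := h3
    rcases hp.dvd_mul.1 h4 with h | h
    · have h5 : p = 3 := (Nat.prime_dvd_prime_iff_eq hp Nat.prime_three).1 h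
      subst h5
      exfalso
      have h6 : ((2 : ℕ) : ZMod 3) ^ 2 = 1 := by decide
      have h7 := orderOf_dvd_of_pow_eq_one h6
      rw [ho] at h7
      omega
    · exact (Nat.prime_dvd_prime_iff_eq hp Nat.prime_five).1 h
  subst hp5
  have hperf : commutator (E (HU (Fin 3) R)) = ⊤ := perfect_of_good (good_HU hR (by omega))
  have hc : Nat.card {y : Module.End F U // ∀ u, R (y u) = R u} ≤ 8 := by
    have h := Cfsg.Agent.H990.TC.Cent.card_iso_two R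
      (fun u hu => hR u fun v => by rw [QuadraticMap.polar_comm]; exact hu v) hU
    rw [hF] at h
    exact h
  have hcent := Cfsg.Agent.H926.OgCent.lemmaB R (AA φ) (X ^ 3 + X + 1) (aeval_A φ)
    (fun x hx => by
      rw [aeval_Ai] at hx
      have h := congrArg (fun z => ((AA φ)⁻¹).1 *ᵥ z) hx
      simp only [Matrix.mulVec_mulVec, Matrix.mulVec_zero] at h
      rwa [val_inv_mul, Matrix.one_mulVec] at h)
    (by
      have h2 := two_eq_zero φ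
      have : (X ^ 3 + X + 1 : F[X]).eval 1 = 1 := by
        simp only [eval_add, eval_pow, eval_X, eval_one, one_pow]
        linear_combination h2
      rw [this]
      exact one_ne_zero)
    (Pi.single 0 1) (fun h => by simpa using congrFun h 0) (cyclic_A φ) hc
  have hcard := (card_centralizer_le (slE R (Fin 3) (AA φ))).trans hcent
  rw [hF] at hcard
  refine (PW.of_pe (m := 2) (k := 6) hperf (pe_y φ R) hA (by norm_num) ?_).mono (by norm_num)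
  exact lt_of_le_of_lt (Nat.pow_le_pow_left (Nat.sub_le_sub_right hcard 1) 6) (by norm_num)

end Cfsg.Agent.H124.Og
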